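import Mathlib
import Cfsg.Agent.Helper19.TCR.Static
import Cfsg.Agent.Helper19.CoxA5.Chk0
import Cfsg.Agent.Helper19.CoxA5.ChkT

set_option autoImplicit false
set_option linter.all false
set_option maxRecDepth 1000000
set_option maxHeartbeats 0

namespace Cfsg.Agent.Helper19.CoxA5

open Cfsg.Agent.Helper19.TCS

theorem okR_all : ∀ p, p < 2 → OKR (p * 500) 500 := by
  intro p hp
  interval_cases p
  · exact okR0
  · exact okR1

theorem okT_all : ∀ p, p < 1 → OKT (p * 20000) 20000 := by
  intro p hp
  interval_cases p
  · exact okT0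

theorem okAll : ∀ i l, i < 720 → l < 5 → OKE i l := by
  intro i l hi hl
  have hp : i / 500 < 2 := by omega
  have h1 : i / 500 * 500 ≤ i := Nat.div_mul_le_self i 500
  have h2 : i < i / 500 * 500 + 500 := by omega
  exact okRows_spec (i / 500 * 500) 500 (okR_all (i / 500) hp) i h1 h2 hi l hl

theorem treeAll : ∀ j, 0 < j → j < 720 → parF j < j := by
  intro j h0 hj
  have hp : j / 20000 < 1 := by omega
  have h1 : j / 20000 * 20000 ≤ j := Nat.div_mul_le_self j 20000
  have h2 : j < j / 20000 * 20000 + 20000 := by omega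
  exact okTree_spec (j / 20000 * 20000) 20000 (okT_all (j / 20000) hp) j h1 h2 h0 hj

theorem rotsF_ok : (List.range 25).all (fun r => rotL.contains (rotsF r)) = true := by decide +kernel

theorem rotL_ok : rotL.all (rotOK 5 rels) = true := by decide +kernel


theorem subL_ok : subL.all (subOK 5 subs) = true := by decide +kernel

theorem subsF_ok : ∀ s, (subsF s).2.1 < 5 → subsF s ∈ subL := by
  intro s hs
  unfold subsF at hs ⊢
  by_cases h : s < subL.length
  · rw [List.getD_eq_getElem _ _ h]; exact List.getElem_mem h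
  · rw [List.getD_eq_default _ _ (not_lt.mp h)] at hs
    simp at hs

theorem invF_ok : ∀ l, l < 5 → invF l = l := by
  intro l hl
  interval_cases l <;> rfl

/-- the table is closed, for any group with generators `gc` satisfying the relators. -/
theorem closed {G : Type*} [Group G] (H : Subgroup G) (gc : ℕ → G)
    (hinv : ∀ l, l < 5 → gc (invF l) = (gc l)⁻¹)
    (hrels : ∀ w ∈ rels, prodw gc w = 1) (hsubs : ∀ w ∈ subs, prodw gc w ∈ H) :
    Sem 720 5 invF 25 rotsF subsF H gc ∧ Closed 720 5 1024 ent parF pletF H gc := by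
  have S : Sem 720 5 invF 25 rotsF subsF H gc :=
    sem_of_data rels subs rotL subL
      (by intro l hl; interval_cases l <;> decide) hinv rotsF_ok rotL_ok hrels subsF_ok subL_ok hsubs
      (by norm_num)
  exact ⟨S, closed_of_ok S treeAll okAll⟩

end Cfsg.Agent.Helper19.CoxA5
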